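import Groth.Prelude.Def_StCurv2
import Groth.Agent.FBase.BC

/-!
# Geometric fibres of a family over a field given by a scheme
-/

set_option autoImplicit false

universe u

open CategoryTheory CategoryTheory.Limits AlgebraicGeometry

namespace Groth.Agent.StFieldLib

/-- The family over `Spec k` of a scheme `X`. -/
noncomputable abbrev famOf (S : Scheme.{u}) {k : Type u} [Field k]
    (t : Spec (CommRingCat.of k) ⟶ S) {X : Scheme.{u}} (p : X ⟶ Spec (CommRingCat.of k)) :
    CurvSt.SpFamObj S 0 :=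
  (CurvSt.toSpFam S 0).obj ⟨Over.mk t, X, p, Fin.elim0, fun i => i.elim0⟩

/-- Geometric fibres of `famOf` are the base changes of the scheme. -/
theorem geomFib_iff (S : Scheme.{u}) {k : Type u} [Field k] (t : Spec (CommRingCat.of k) ⟶ S)
    {X : Scheme.{u}} (p : X ⟶ Spec (CommRingCat.of k))
    (P : ∀ (Ω : Type u) [Field Ω] [IsAlgClosed Ω] (X' : Scheme.{u}),
      (X' ⟶ Spec (CommRingCat.of Ω)) → Prop) :
    CurvSt.GeomFib (fun Ω _ _ X' q _ => P Ω X' q) (famOf S t p) ↔
      ∀ (Ω : Type u) [Field Ω] [IsAlgClosed Ω] (s : Spec (CommRingCat.of Ω) ⟶ Spec (CommRingCat.of k))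
        (X' : Scheme.{u}) (q : X' ⟶ Spec (CommRingCat.of Ω)) (i₀ : X' ⟶ X),
        IsPullback i₀ q p s → P Ω X' q := by
  constructor
  · intro h Ω _ _ s X' q i₀ hsq
    have hw : i₀ ≫ p ≫ t = (q ≫ s) ≫ t := by rw [← Category.assoc, hsq.w]
    let A := famOf S t p
    let i' : A.ptOver (q ≫ s) ⟶ Over.mk (p ≫ t) := Over.homMk i₀ hw
    have hP : IsPullback i' (A.fibHom s q) (Over.homMk p rfl : Over.mk (p ≫ t) ⟶ Over.mk t)
        (A.ptHom s) := IsPullback.of_map (Over.forget S) (by ext; exact hsq.w) hsq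
    exact h Ω s X' q ((AlgSp.yon S).map i') (hP.map (AlgSp.yon S))
  · intro h Ω _ _ s X' q i hP
    obtain ⟨i', hi'⟩ := (AlgSp.yon S).map_surjective
      (show (AlgSp.yon S).obj _ ⟶ (AlgSp.yon S).obj (Over.mk (p ≫ t)) from i)
    subst hi'
    have h1 : IsPullback i' ((famOf S t p).fibHom s q)
        (Over.homMk p rfl : Over.mk (p ≫ t) ⟶ Over.mk t) ((famOf S t p).ptHom s) :=
      IsPullback.of_map (AlgSp.yon S) ((AlgSp.yon S).map_injective (
        ((AlgSp.yon S).map_comp _ _).trans (hP.w.trans ((AlgSp.yon S).map_comp _ _).symm))) hP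
    exact h Ω s X' q i'.left (h1.map (Over.forget S))

end Groth.Agent.StFieldLib
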