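import Groth.Prelude.Def_AlgSp3
import Groth.Prelude.Def_MoreMor
import Groth.Agent.FlatMor.FibreStalk
import Groth.Agent.Hensel.UnramifiedFlat
import Groth.Agent.Gor.FlatLocal
import Mathlib.RingTheory.Unramified.LocalRing
import Mathlib.RingTheory.SimpleModule.InjectiveProjective
import Mathlib.AlgebraicGeometry.Morphisms.Etale
import Mathlib.AlgebraicGeometry.Morphisms.FormallyUnramified

/-!
# Etale charts of a morphism to the spectrum of a field
-/

set_option autoImplicit false

universe u

open CategoryTheory AlgebraicGeometry IsLocalRing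

namespace Groth.Agent.StFieldLib

/-- Flat, and maximal ideal maps onto maximal ideal. -/
structure IsWeakEtale {L M : Type u} [CommRing L] [IsLocalRing L] [CommRing M] [IsLocalRing M]
    (φ : L →+* M) : Prop where
  flat : φ.Flat
  local_hom : IsLocalHom φ
  map_max : (maximalIdeal L).map φ = maximalIdeal M

section

variable {L M : Type u} [CommRing L] [IsLocalRing L] [IsNoetherianRing L] [CommRing M]
  [IsLocalRing M] [IsNoetherianRing M] {φ : L →+* M} (h : IsWeakEtale φ)
include h

theorem IsWeakEtale.cm_iff :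
    LocCoh.IsCohenMacaulayLocalRing M ↔ LocCoh.IsCohenMacaulayLocalRing L := by
  let := φ.toAlgebra
  have : Module.Flat L M := h.flat
  have : IsLocalHom (algebraMap L M) := h.local_hom
  exact Hensel.UnramifiedFlat.isCohenMacaulay_iff L M h.map_max

theorem IsWeakEtale.gor_iff :
    LocCoh.IsGorensteinLocalRing M ↔ LocCoh.IsGorensteinLocalRing L := by
  let := φ.toAlgebra
  have : Module.Flat L M := h.flat
  have : IsLocalHom (algebraMap L M) := h.local_hom
  rw [Gor.FlatLocal.gorenstein_flat_local_iff L M, and_iff_left]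
  have hm : ((maximalIdeal L).map (algebraMap L M)).IsMaximal := by
    rw [show (maximalIdeal L).map (algebraMap L M) = maximalIdeal M from h.map_max]
    infer_instance
  let := Ideal.Quotient.field ((maximalIdeal L).map (algebraMap L M))
  exact Gor.Basic.gorenstein_of_injective (Module.injective_of_isSemisimpleRing _ _)

end

theorem isWeakEtale_of_bijective {L M : Type u} [CommRing L] [IsLocalRing L] [CommRing M]
    [IsLocalRing M] {φ : L →+* M} (h : Function.Bijective φ) : IsWeakEtale φ := by
  have : IsLocalHom φ := ⟨fun a ha => by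
    obtain ⟨b, hb⟩ := ha.exists_right_inv
    obtain ⟨b, rfl⟩ := h.2 b
    rw [← map_mul, ← φ.map_one] at hb
    exact IsUnit.of_mul_eq_one b (h.1 hb)⟩
  refine ⟨RingHom.Flat.of_bijective h, this, ?_⟩
  exact ((IsLocalRing.eq_maximalIdeal
    (Ideal.map_isMaximal_of_equiv (RingEquiv.ofBijective φ h) (p := maximalIdeal L))))

/-- Stalk maps of étale morphisms. -/
theorem isWeakEtale_stalkMap {X Y : Scheme.{u}} (f : X ⟶ Y) [Etale f] (x : X) :
    IsWeakEtale (f.stalkMap x).hom := by
  refine ⟨Flat.stalkMap f x, inferInstance, ?_⟩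
  algebraize [(f.stalkMap x).hom]
  have : IsLocalHom (algebraMap (Y.presheaf.stalk (f x)) (X.presheaf.stalk x)) :=
    inferInstanceAs <| IsLocalHom (f.stalkMap x).hom
  have : Algebra.EssFiniteType (Y.presheaf.stalk (f x)) (X.presheaf.stalk x) := by
    rw [← RingHom.essFiniteType_algebraMap, RingHom.algebraMap_toAlgebra]
    exact LocallyOfFiniteType.stalkMap f x
  have : Algebra.FormallyUnramified (Y.presheaf.stalk (f x)) (X.presheaf.stalk x) := by
    rw [← RingHom.formallyUnramified_algebraMap, RingHom.algebraMap_toAlgebra]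
    exact FormallyUnramified.stalkMap f x
  exact Algebra.FormallyUnramified.map_maximalIdeal

variable {k : Type u} [Field k]

theorem maximalIdeal_stalk_eq_bot {V : Scheme.{u}} (b : V ⟶ Spec (CommRingCat.of k)) [Etale b]
    (v : V) : maximalIdeal (V.presheaf.stalk v) = ⊥ := by
  rw [← (isWeakEtale_stalkMap b v).map_max,
    FlatMor.SepDiff.maximalIdeal_stalk_spec_field (Field.toIsField k) (b v), Ideal.map_bot]

theorem flat_of_maximalIdeal_eq_bot {L M : Type u} [CommRing L] [IsLocalRing L] [CommRing M]
    (φ : L →+* M) (h : maximalIdeal L = ⊥) : φ.Flat := by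
  let := ((isField_iff_maximalIdeal_eq).2 h).toField
  let := φ.toAlgebra
  show Module.Flat L M
  infer_instance

/-- Over a scheme whose local ring at the image is a field the fibre has the same local ring. -/
theorem fiberι_stalkMap_bijective {U V : Scheme.{u}} (h : U ⟶ V) (y : V) (z : h.fiber y)
    (hy : maximalIdeal (V.presheaf.stalk (h (h.fiberι y z))) = ⊥) :
    Function.Bijective ((h.fiberι y).stalkMap z).hom := by
  refine ⟨?_, (h.fiberι y).stalkMap_surjective z⟩
  rw [RingHom.injective_iff_ker_eq_bot, FlatMor.FibreStalk.ker_stalkMap_fiberι, hy, Ideal.map_bot]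

section Transfer

variable {U V X : Scheme.{u}} {p : X ⟶ Spec (CommRingCat.of k)} [LocallyOfFiniteType p]
  (a : U ⟶ X) [Etale a] (b : V ⟶ Spec (CommRingCat.of k)) [Etale b] (h : U ⟶ V)

include a b p in
/-- Flat, and a property of the local rings invariant under weakly étale maps holds on fibres. -/
theorem flat_and_fibre (P : ∀ (R : Type u) [CommRing R], Prop)
    (hP : ∀ {L M : Type u} [CommRing L] [IsLocalRing L] [IsNoetherianRing L] [CommRing M]
      [IsLocalRing M] [IsNoetherianRing M] {φ : L →+* M}, IsWeakEtale φ → P L → P M)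
    (hX : ∀ x : X, P (X.presheaf.stalk x)) (u : U) :
    (h.stalkMap u).hom.Flat ∧ P ((h.fiber (h u)).presheaf.stalk (h.asFiber u)) := by
  refine ⟨flat_of_maximalIdeal_eq_bot _ (maximalIdeal_stalk_eq_bot b _), ?_⟩
  have hXn : IsLocallyNoetherian X := LocallyOfFiniteType.isLocallyNoetherian p
  have hUn : IsLocallyNoetherian U := LocallyOfFiniteType.isLocallyNoetherian a
  have hb := fiberι_stalkMap_bijective h (h u) (h.asFiber u) (maximalIdeal_stalk_eq_bot b _)
  have : IsNoetherianRing ((h.fiber (h u)).presheaf.stalk (h.asFiber u)) :=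
    isNoetherianRing_of_surjective _ _ _ hb.2
  exact hP (isWeakEtale_of_bijective hb)
    (hP (isWeakEtale_stalkMap a _) (hX (a (h.fiberι _ (h.asFiber u)))))

/-- Descent to the scheme from its own fibre. -/
theorem of_fibre (P : ∀ (R : Type u) [CommRing R], Prop)
    (hP : ∀ {L M : Type u} [CommRing L] [IsLocalRing L] [IsNoetherianRing L] [CommRing M]
      [IsLocalRing M] [IsNoetherianRing M] {φ : L →+* M}, IsWeakEtale φ → P M → P L)
    (x : X) (hx : P ((p.fiber (p x)).presheaf.stalk (p.asFiber x))) : P (X.presheaf.stalk x) := by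
  have hXn : IsLocallyNoetherian X := LocallyOfFiniteType.isLocallyNoetherian p
  have key : ∀ x', p.fiberι (p x) (p.asFiber x) = x' → P (X.presheaf.stalk x') := by
    rintro x' rfl
    have hb := fiberι_stalkMap_bijective p (p x) (p.asFiber x)
      (FlatMor.SepDiff.maximalIdeal_stalk_spec_field (Field.toIsField k) _)
    have : IsNoetherianRing ((p.fiber (p x)).presheaf.stalk (p.asFiber x)) :=
      isNoetherianRing_of_surjective _ _ _ hb.2
    exact hP (isWeakEtale_of_bijective hb) hx
  exact key x (p.fiberι_asFiber x)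

end Transfer

/-- Charts of a representable morphism are morphisms of schemes. -/
theorem exists_of_repWith_etale {S : Scheme.{u}} {U X : Over S}
    (a : (AlgSp.yon S).obj U ⟶ (AlgSp.yon S).obj X) (ha : AlgSp.RepWith @Etale a) :
    ∃ a₀ : U ⟶ X, (AlgSp.yon S).map a₀ = a ∧ Etale a₀.left := by
  obtain ⟨a₀, rfl⟩ := (AlgSp.yon S).map_surjective a
  exact ⟨a₀, rfl, (AlgSp.repWith_yon_map_iff @Etale a₀).1 ha⟩

end Groth.Agent.StFieldLib
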